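/-
A p-group for odd p with all abelian subgroups of exponent p of order at most p is cyclic.
-/
import Mathlib

set_option autoImplicit false

namespace CfsgLib.Isolated

variable {G : Type*} [Group G]

lemma mul_pow_of_central {b e z : G} (h : e * b = b * e * z) (hb : Commute z b) (he : Commute z e) (i : ℕ) :
    e ^ i * b = b * e ^ i * z ^ i ∧ (b * e) ^ i = b ^ i * e ^ i * z ^ (i.choose 2) := by
  induction i with
  | zero => simp
  | succ i ih =>
    obtain ⟨h1, h2⟩ := ih
    constructor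
    · calc e ^ (i + 1) * b = e * (e ^ i * b) := by rw [pow_succ', mul_assoc]
        _ = (e * b) * e ^ i * z ^ i := by rw [h1]; simp only [mul_assoc]
        _ = b * e * (z * e ^ i) * z ^ i := by rw [h]; simp only [mul_assoc]
        _ = b * e * (e ^ i * z) * z ^ i := by rw [(he.pow_right i).eq]
        _ = b * e ^ (i + 1) * z ^ (i + 1) := by simp only [pow_succ', mul_assoc]
    · calc (b * e) ^ (i + 1) = b ^ i * e ^ i * (z ^ (i.choose 2) * b) * e := by
            rw [pow_succ, h2]; simp only [mul_assoc]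
        _ = b ^ i * (e ^ i * b) * z ^ (i.choose 2) * e := by
            rw [((hb.pow_left _)).eq]; simp only [mul_assoc]
        _ = b ^ i * b * e ^ i * (z ^ i * z ^ (i.choose 2) * e) := by rw [h1]; simp only [mul_assoc]
        _ = b ^ i * b * e ^ i * (e * (z ^ (i + i.choose 2))) := by
            rw [← pow_add, (he.pow_left _).eq]
        _ = b ^ (i + 1) * e ^ (i + 1) * z ^ ((i + 1).choose 2) := by
            rw [Nat.choose_succ_succ' i 1, Nat.choose_one_right, pow_succ, pow_succ]; simp only [mul_assoc]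

lemma isCyclic_of_small_abelian_aux {p : ℕ} [hp : Fact p.Prime] (hp2 : p ≠ 2) :
    ∀ (n : ℕ) (G : Type u_1) [Group G] [Finite G], Nat.card G ≤ n → IsPGroup p G →
      (∀ A : Subgroup G, IsMulCommutative A → (∀ a ∈ A, a ^ p = 1) → Nat.card A ≤ p) → IsCyclic G := by
  intro n
  induction n with
  | zero => intro G _ _ h; exact absurd h (by have := Nat.card_pos (α := G); omega)
  | succ n ih =>
  intro G _ _ hn hG hA
  rcases subsingleton_or_nontrivial G with hs | hnt
  · exact isCyclic_of_subsingleton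
  obtain ⟨M, hM, -⟩ := (eq_top_or_exists_le_coatom (⊥ : Subgroup G)).resolve_left bot_ne_top
  have hnil : Group.IsNilpotent G := hG.isNilpotent
  have hMn : M.Normal := Subgroup.NormalizerCondition.normal_of_coatom M Group.normalizerCondition_of_isNilpotent hM
  have hcardM : Nat.card M ≤ n := by
    have : Nat.card M < Nat.card G :=
      lt_of_le_of_ne (Subgroup.card_le_card_group M) (fun h => hM.1 ((Subgroup.card_eq_iff_eq_top M).1 h))
    omega
  have hMc : IsCyclic M := ih M hcardM (hG.to_subgroup M) fun A hA1 hA2 => by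
    have h := hA (A.map M.subtype) inferInstance (by
      rintro _ ⟨a, ha, rfl⟩; rw [← map_pow, hA2 a ha, map_one])
    rwa [Subgroup.card_subtype] at h
  obtain ⟨⟨c, hcM⟩, hc⟩ := IsCyclic.exists_generator (α := M)
  have hgen : ∀ r ∈ M, ∃ k : ℤ, c ^ k = r := fun r hr => by
    obtain ⟨k, hk⟩ := hc ⟨r, hr⟩
    exact ⟨k, by simpa using congrArg Subtype.val hk⟩
  obtain ⟨b, -, hbM⟩ := SetLike.exists_of_lt hM.lt_top
  have htop : M ⊔ Subgroup.zpowers b = ⊤ := hM.2 _ (lt_of_le_of_ne le_sup_left fun h =>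
    hbM (h ▸ Subgroup.mem_sup_right (Subgroup.mem_zpowers b)))
  have hidx : M.index = p := by
    obtain ⟨k, hk⟩ := IsPGroup.index hG M
    -- a maximal subgroup of a p-group has index p
    obtain ⟨q, hq⟩ := exists_prime_orderOf_dvd_card' p (G := G ⧸ M) (by
      rw [← Subgroup.index_eq_card, hk]
      exact dvd_pow_self p (fun h0 => hM.1 (Subgroup.index_eq_one.1 (by rw [hk, h0, pow_zero]))))
    have h1 : Subgroup.zpowers q = ⊤ := by
      rcases hM.le_iff.1 (QuotientGroup.le_comap_mk' M (Subgroup.zpowers q)) with h | h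
      · rw [← Subgroup.map_comap_eq_self_of_surjective (QuotientGroup.mk'_surjective M) (Subgroup.zpowers q),
          h, Subgroup.map_top_of_surjective _ (QuotientGroup.mk'_surjective M)]
      · exfalso
        obtain ⟨g, rfl⟩ := QuotientGroup.mk_surjective q
        have hg : g ∈ (Subgroup.zpowers (g : G ⧸ M)).comap (QuotientGroup.mk' M) := Subgroup.mem_zpowers _
        rw [h] at hg
        rw [(QuotientGroup.eq_one_iff g).2 hg, orderOf_one] at hq
        exact hp.out.ne_one hq.symm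
    rw [Subgroup.index_eq_card, ← orderOf_eq_card_of_forall_mem_zpowers (fun z => h1 ▸ Subgroup.mem_top z), hq]
  by_cases hMne : M = ⊥
  · refine isCyclic_of_prime_card (p := p) ?_
    rw [← hidx, hMne, Subgroup.index_bot]
  have hbp : b ^ p ∈ M := hidx ▸ M.pow_index_mem b
  obtain ⟨j, hj⟩ := hgen _ hbp
  have hcyc : c ∈ Subgroup.zpowers b → IsCyclic G := fun h => by
    refine ⟨⟨b, fun g => ?_⟩⟩
    have : M ⊔ Subgroup.zpowers b ≤ Subgroup.zpowers b := by
      refine sup_le (fun r hr => ?_) le_rfl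
      obtain ⟨k, rfl⟩ := hgen r hr
      exact Subgroup.zpow_mem _ h k
    exact this (htop ▸ Subgroup.mem_top g)
  obtain ⟨t, ht⟩ := IsPGroup.iff_orderOf.1 hG c
  by_cases hpj : (p : ℤ) ∣ j
  swap
  · obtain ⟨u, v, huv⟩ := IsCoprime.pow_left (m := t) (((Nat.prime_iff_prime_int.1 hp.out).coprime_iff_not_dvd).2 hpj)
    refine hcyc ⟨(p : ℤ) * v, ?_⟩
    have e : c ^ (u * ((p : ℤ) ^ t)) = 1 := by
      rw [mul_comm, zpow_mul, ← Nat.cast_pow, zpow_natCast, ← ht, pow_orderOf_eq_one, one_zpow]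
    calc b ^ ((p : ℤ) * v) = c ^ (j * v) := by rw [zpow_mul, zpow_natCast, ← hj, ← zpow_mul]
      _ = c ^ (u * (p : ℤ) ^ t + v * j) := by rw [zpow_add, e, one_mul, mul_comm]
      _ = c := by rw [huv, zpow_one]
  exfalso
  obtain ⟨i, rfl⟩ := hpj
  set d := c ^ i with hd
  have hdM : d ∈ M := M.zpow_mem hcM i
  have hbd : b ^ p = d ^ p := by rw [← hj, hd, ← zpow_natCast (c ^ i), ← zpow_mul, mul_comm]
  obtain ⟨k, hk⟩ := hgen _ (hMn.conj_mem c hcM b)
  have hconj : ∀ r ∈ M, b * r * b⁻¹ = r ^ k := by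
    intro r hr
    obtain ⟨m, rfl⟩ := hgen r hr
    rw [← conj_zpow, ← hk, ← zpow_mul, ← zpow_mul, mul_comm]
  -- `k ≡ 1` modulo `p`
  have hk1 : ∀ r ∈ M, r ^ p = 1 → r ^ k = r := by
    intro r hr hrp
    have hpow : ∀ s : ℕ, b ^ s * r * (b ^ s)⁻¹ = r ^ (k ^ s) := by
      intro s
      induction s with
      | zero => simp
      | succ s ihs =>
        calc b ^ (s + 1) * r * (b ^ (s + 1))⁻¹ = b * (b ^ s * r * (b ^ s)⁻¹) * b⁻¹ := by
              rw [pow_succ' b s]; group
          _ = (r ^ (k ^ s)) ^ k := by rw [ihs]; exact hconj _ (M.zpow_mem hr _)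
          _ = _ := by rw [← zpow_mul, pow_succ]
    have h1 : r ^ (k ^ p) = r := by
      rw [← hpow, hbd]
      obtain ⟨m, rfl⟩ := hgen r hr
      rw [show d ^ p * c ^ m = c ^ m * d ^ p from ((Commute.zpow_zpow_self c i m).pow_left p).eq,
        mul_inv_cancel_right]
    have h2 : (p : ℤ) ∣ k ^ p - k := by
      rw [← ZMod.intCast_zmod_eq_zero_iff_dvd]
      push_cast
      rw [ZMod.pow_card, sub_self]
    obtain ⟨w, hw⟩ := h2
    have h3 : r ^ (k ^ p - k) = 1 := by rw [hw, zpow_mul, zpow_natCast, hrp, one_zpow]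
    rw [zpow_sub, h1] at h3
    exact (mul_inv_eq_one.1 h3).symm
  set e := d⁻¹ with he
  have heM : e ∈ M := M.inv_mem hdM
  set z := (b * e * 1)⁻¹ * (e * b) with hz
  have hzM : z ∈ M := by
    have : z = e⁻¹ * (b⁻¹ * e * b) := by rw [hz]; group
    rw [this]
    exact M.mul_mem (M.inv_mem heM) (by simpa [mul_assoc] using hMn.conj_mem e heM b⁻¹)
  have hze : Commute z e := by
    obtain ⟨m, hm⟩ := hgen z hzM
    obtain ⟨m', hm'⟩ := hgen e heM
    rw [← hm, ← hm']
    exact Commute.zpow_zpow_self c m m'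
  have hzp : z ^ p = 1 := by
    have h1 : z = e⁻¹ * (b⁻¹ * e * b) := by rw [hz]; group
    have hmM : b⁻¹ * e * b ∈ M := by simpa [mul_assoc] using hMn.conj_mem e heM b⁻¹
    have hcomm : Commute e⁻¹ (b⁻¹ * e * b) := by
      obtain ⟨m, hm⟩ := hgen _ hmM
      obtain ⟨m', hm'⟩ := hgen _ (M.inv_mem heM)
      rw [← hm, ← hm']
      exact Commute.zpow_zpow_self c m' m
    rw [h1, hcomm.mul_pow, show (b⁻¹ * e * b) ^ p = b⁻¹ * e ^ p * b by
      rw [show b⁻¹ * e * b = b⁻¹ * e * b⁻¹⁻¹ by group, conj_pow, inv_inv]]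
    have : Commute (b ^ p) b := Commute.pow_self b p
    rw [he, inv_inv, inv_pow, ← hbd, mul_assoc b⁻¹, this.inv_left.eq]
    group
  have hzb : Commute z b := (mul_inv_eq_iff_eq_mul.1 (by rw [hconj z hzM, hk1 z hzM hzp] : b * z * b⁻¹ = z)).symm
  have hrel : e * b = b * e * z := by rw [hz]; group
  have hbe : (b * e) ^ p = 1 := by
    rw [(mul_pow_of_central hrel hzb hze p).2]
    obtain ⟨m, hm⟩ := hp.out.dvd_choose_self (k := 2) (by norm_num) (lt_of_le_of_ne hp.out.two_le (Ne.symm hp2))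
    rw [hm, pow_mul, hzp, one_pow, mul_one, he, inv_pow, ← hbd, mul_inv_cancel]
  have hbeM : b * e ∉ M := fun h => hbM (by simpa [mul_assoc] using M.mul_mem h (M.inv_mem heM))
  -- an element of order `p` in `M`
  obtain ⟨f, hfM, hf1, hfp⟩ : ∃ f ∈ M, f ≠ 1 ∧ f ^ p = 1 := by
    have : Nontrivial M := (Subgroup.nontrivial_iff_ne_bot M).2 hMne
    obtain ⟨s, hs⟩ := (hG.to_subgroup M).exists_card_eq
    obtain ⟨f, hf⟩ := exists_prime_orderOf_dvd_card' p (G := M) (by
      rw [hs]; exact dvd_pow_self p (fun h0 => by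
        rw [h0, pow_zero] at hs; exact absurd hs (ne_of_gt Finite.one_lt_card)))
    refine ⟨f, f.2, fun h => hp.out.ne_one ?_, ?_⟩
    · rw [← hf, show f = 1 from Subtype.ext h, orderOf_one]
    · rw [← hf, ← Subgroup.orderOf_coe, pow_orderOf_eq_one]
  have hcomm : Commute (b * e) f := by
    have h1 : b * f * b⁻¹ = f := by rw [hconj f hfM, hk1 f hfM hfp]
    obtain ⟨m, hm⟩ := hgen e heM
    obtain ⟨m', hm'⟩ := hgen f hfM
    refine Commute.mul_left (mul_inv_eq_iff_eq_mul.1 h1) ?_
    rw [← hm, ← hm']; exact Commute.zpow_zpow_self c m m'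
  set A := Subgroup.closure ({b * e, f} : Set G) with hAdef
  have hAc : IsMulCommutative A := Subgroup.isMulCommutative_closure (by
    rintro x (rfl | rfl) y (rfl | rfl)
    exacts [rfl, hcomm.eq, hcomm.eq.symm, rfl])
  have hAp : ∀ a ∈ A, a ^ p = 1 := by
    intro a ha
    induction ha using Subgroup.closure_induction with
    | mem x hx => rcases hx with rfl | rfl; exacts [hbe, hfp]
    | one => exact one_pow p
    | mul x y hx hy h1 h2 =>
      have : Commute x y := congrArg Subtype.val (hAc.is_comm.comm ⟨x, hx⟩ ⟨y, hy⟩)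
      rw [this.mul_pow, h1, h2, mul_one]
    | inv x _ h => rw [inv_pow, h, inv_one]
  have hlt : Subgroup.zpowers f < A := by
    refine lt_of_le_of_ne ((Subgroup.zpowers_le).2 (Subgroup.subset_closure (Or.inr rfl))) fun h => hbeM ?_
    exact (Subgroup.zpowers_le).2 hfM (h ▸ Subgroup.subset_closure (Or.inl rfl))
  have h1 : Nat.card (Subgroup.zpowers f) = p := by rw [Nat.card_zpowers, orderOf_eq_prime hfp hf1]
  have h2 := Subgroup.eq_of_le_of_card_ge hlt.le (h1 ▸ hA A hAc hAp)
  exact hlt.ne h2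

/-- A `p`-group, `p` odd, of `p`-rank at most one is cyclic. -/
lemma isCyclic_of_small_abelian {G : Type*} [Group G] [Finite G] {p : ℕ} [Fact p.Prime] (hp2 : p ≠ 2)
    (hG : IsPGroup p G) (hA : ∀ A : Subgroup G, IsMulCommutative A → (∀ a ∈ A, a ^ p = 1) → Nat.card A ≤ p) :
    IsCyclic G :=
  isCyclic_of_small_abelian_aux hp2 _ G le_rfl hG hA

end CfsgLib.Isolated
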