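/-
Elementary facts on isolated p-elements (an element commuting with no conjugate of itself but itself).
-/
import Mathlib
import Cfsg.Prelude.Def_IsolatedElements

set_option autoImplicit false

open Cfsg

namespace CfsgLib.Isolated

variable {G : Type*} [Group G]

/-- For `p`-groups `A`, `B` inside a subgroup `X`, some `c ∈ X` moves `B` into a common `p`-subgroup with `A`. -/
lemma exists_conj_into_common_pGroup [Finite G] {p : ℕ} [Fact p.Prime] {A B X : Subgroup G}
    (hA : IsPGroup p A) (hB : IsPGroup p B) (hAX : A ≤ X) (hBX : B ≤ X) :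
    ∃ c ∈ X, ∃ R : Subgroup G, IsPGroup p R ∧ R ≤ X ∧ A ≤ R ∧ ∀ b ∈ B, c * b * c⁻¹ ∈ R := by
  obtain ⟨Q₁, hQ₁⟩ := (hA.comap_subtype (K := X)).exists_le_sylow
  obtain ⟨Q₂, hQ₂⟩ := (hB.comap_subtype (K := X)).exists_le_sylow
  obtain ⟨c, hc⟩ := MulAction.exists_smul_eq (↥X) Q₂ Q₁
  refine ⟨(c : G), c.2, (Q₁ : Subgroup X).map X.subtype, Q₁.2.map _,
    Subgroup.map_subtype_le _, fun a ha => ⟨⟨a, hAX ha⟩, hQ₁ (show a ∈ A from ha), rfl⟩,
    fun b hb => ?_⟩
  have h2 : (⟨b, hBX hb⟩ : X) ∈ (Q₂ : Subgroup X) := hQ₂ (show b ∈ B from hb)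
  refine ⟨c * ⟨b, hBX hb⟩ * c⁻¹, ?_, by simp⟩
  rw [← hc, Sylow.coe_subgroup_smul]
  exact ⟨_, h2, by simp⟩

lemma isPGroup_zpowers_of_orderOf {p : ℕ} [Fact p.Prime] {x : G} (hx : ∃ k : ℕ, orderOf x = p ^ k) :
    IsPGroup p (Subgroup.zpowers x) := by
  obtain ⟨k, hk⟩ := hx
  exact IsPGroup.of_card (n := k) (by rw [Nat.card_zpowers, hk])

lemma commute_of_mem_pSubgroup [Finite G] {p : ℕ} [Fact p.Prime] {x : G} (hiso : IsIsolated x)
    {R : Subgroup G} (hR : IsPGroup p R) (hxR : x ∈ R) {r : G} (hr : r ∈ R) : Commute x r := by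
  have hnil : Group.IsNilpotent R := hR.isNilpotent
  set H : Subgroup R := Subgroup.centralizer {(⟨x, hxR⟩ : R)} with hH
  have htop : H = ⊤ := by
    apply normalizerCondition_iff_only_full_group_self_normalizing.mp Group.normalizerCondition_of_isNilpotent
    refine le_antisymm (fun g hg => ?_) Subgroup.le_normalizer
    rw [Subgroup.mem_normalizer_iff] at hg
    have h1 : (⟨x, hxR⟩ : R) ∈ H := by simp [hH, Subgroup.mem_centralizer_iff]
    have h2 := (hg _).1 h1
    rw [hH, Subgroup.mem_centralizer_singleton_iff, Subtype.ext_iff] at h2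
    have h3 := hiso (g : G) (by simpa [Commute, SemiconjBy] using h2.symm)
    rw [hH, Subgroup.mem_centralizer_singleton_iff, Subtype.ext_iff]
    simpa [mul_inv_eq_iff_eq_mul] using h3
  have h4 : (⟨r, hr⟩ : R) ∈ H := htop ▸ Subgroup.mem_top _
  rw [hH, Subgroup.mem_centralizer_singleton_iff, Subtype.ext_iff] at h4
  exact Eq.symm (by simpa using h4)

/-- An isolated element and a conjugate of it lying in a common `p`-subgroup coincide. -/
lemma conj_eq_of_mem_pSubgroup [Finite G] {p : ℕ} [Fact p.Prime] {x : G} (hiso : IsIsolated x)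
    {R : Subgroup G} (hR : IsPGroup p R) (hxR : x ∈ R) {g : G} (hg : g * x * g⁻¹ ∈ R) :
    g * x * g⁻¹ = x :=
  hiso g (commute_of_mem_pSubgroup hiso hR hxR hg)

/-- Two conjugates of an isolated `p`-element lying in a subgroup `X` are conjugate under `X`. -/
lemma exists_conj_eq [Finite G] {p : ℕ} [Fact p.Prime] {x : G} (hx : ∃ k : ℕ, orderOf x = p ^ k)
    (hiso : IsIsolated x) {X : Subgroup G} (hxX : x ∈ X) {g : G} (hg : g * x * g⁻¹ ∈ X) :
    ∃ c ∈ X, c * g * x * (c * g)⁻¹ = x := by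
  have hx' : ∃ k : ℕ, orderOf (g * x * g⁻¹) = p ^ k := by
    simpa [← MulAut.conj_apply, MulEquiv.orderOf_eq] using hx
  obtain ⟨c, hc, R, hR, -, hxR, hcR⟩ := exists_conj_into_common_pGroup
    (isPGroup_zpowers_of_orderOf hx) (isPGroup_zpowers_of_orderOf hx')
    ((Subgroup.zpowers_le).2 hxX) ((Subgroup.zpowers_le).2 hg)
  refine ⟨c, hc, conj_eq_of_mem_pSubgroup hiso hR (hxR (Subgroup.mem_zpowers x)) ?_⟩
  have := hcR _ (Subgroup.mem_zpowers _)
  simpa [mul_assoc] using this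

lemma normalizer_le_centralizer [Finite G] {p : ℕ} [Fact p.Prime] {x : G} (hiso : IsIsolated x)
    {R : Subgroup G} (hR : IsPGroup p R) (hxR : x ∈ R) :
    Subgroup.normalizer (R : Set G) ≤ Subgroup.centralizer ({x} : Set G) := by
  intro g hg
  have h := conj_eq_of_mem_pSubgroup hiso hR hxR ((Subgroup.mem_normalizer_iff.1 hg x).1 hxR)
  rw [Subgroup.mem_centralizer_singleton_iff]
  exact mul_inv_eq_iff_eq_mul.1 h

lemma sup_inf_centralizer_eq [Finite G] {p : ℕ} [Fact p.Prime] {x : G}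
    (hx : ∃ k : ℕ, orderOf x = p ^ k) (hiso : IsIsolated x) {H N : Subgroup G} (hNH : N ≤ H)
    (hH : H ≤ Subgroup.normalizer (N : Set G)) (hxN : x ∈ N) :
    N ⊔ (H ⊓ Subgroup.centralizer ({x} : Set G)) = H := by
  refine le_antisymm (sup_le hNH inf_le_left) fun h hh => ?_
  obtain ⟨c, hc, hcx⟩ := exists_conj_eq hx hiso hxN ((Subgroup.mem_normalizer_iff.1 (hH hh) x).1 hxN)
  have h1 : c * h ∈ H ⊓ Subgroup.centralizer ({x} : Set G) :=
    ⟨H.mul_mem (hNH hc) hh, Subgroup.mem_centralizer_singleton_iff.2 (mul_inv_eq_iff_eq_mul.1 hcx)⟩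
  have h2 : c⁻¹ * (c * h) ∈ N ⊔ (H ⊓ Subgroup.centralizer ({x} : Set G)) :=
    Subgroup.mul_mem _ (Subgroup.mem_sup_left (N.inv_mem hc)) (Subgroup.mem_sup_right h1)
  simpa using h2

/-- Any element commuting with an isolated `p`-element `x` which is conjugate to a power of `x`
is that power. -/
lemma conj_zpow_eq_of_commute [Finite G] {p : ℕ} [Fact p.Prime] {x : G}
    (hx : ∃ k : ℕ, orderOf x = p ^ k) (hiso : IsIsolated x) (k : ℤ) (g : G)
    (hcomm : Commute x (g * x ^ k * g⁻¹)) : g * x ^ k * g⁻¹ = x ^ k := by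
  set u := g * x ^ k * g⁻¹ with hu
  have hu' : u = (g * x * g⁻¹) ^ k := by rw [hu, conj_zpow]
  obtain ⟨c, hc, hcx⟩ := exists_conj_eq hx hiso (X := Subgroup.centralizer {u}) (g := g)
    (Subgroup.mem_centralizer_singleton_iff.2 hcomm)
    (Subgroup.mem_centralizer_singleton_iff.2 (by rw [hu']; exact (Commute.zpow_right (Commute.refl _) k)))
  have h1 : c * g * x ^ k * (c * g)⁻¹ = x ^ k := by rw [← conj_zpow, hcx]
  have h2 : c * u * c⁻¹ = u := mul_inv_eq_iff_eq_mul.2 (Subgroup.mem_centralizer_singleton_iff.1 hc)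
  rw [← h2, hu]
  conv_rhs => rw [← h1]
  group

lemma isolated_quotient [Finite G] {p : ℕ} [Fact p.Prime] {x : G}
    (hx : ∃ k : ℕ, orderOf x = p ^ k) (hiso : IsIsolated x) (N : Subgroup G) [N.Normal] :
    IsIsolated (QuotientGroup.mk x : G ⧸ N) := by
  intro q hq
  obtain ⟨g, rfl⟩ := QuotientGroup.mk_surjective q
  set π := QuotientGroup.mk' N
  have hπ : ∀ a : G, (QuotientGroup.mk a : G ⧸ N) = π a := fun a => rfl
  simp only [hπ, ← map_inv, ← map_mul] at hq ⊢
  set y := g * x * g⁻¹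
  set X : Subgroup G := (Subgroup.closure {π x, π y}).comap π with hX
  obtain ⟨c, hc, hcx⟩ := exists_conj_eq hx hiso (X := X) (g := g)
    (Subgroup.subset_closure (Set.mem_insert _ _)) (Subgroup.subset_closure (Set.mem_insert_of_mem _ rfl))
  have hle : Subgroup.closure {π x, π y} ≤ Subgroup.centralizer {π y} := by
    rw [Subgroup.closure_le]
    rintro z (rfl | rfl)
    · exact Subgroup.mem_centralizer_singleton_iff.2 hq
    · exact Subgroup.mem_centralizer_singleton_iff.2 rfl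
  have hcy : π c * π y = π y * π c := Subgroup.mem_centralizer_singleton_iff.1 (hle hc)
  have h1 : π c * π y * (π c)⁻¹ = π x := by
    rw [← map_inv, ← map_mul, ← map_mul, show c * y * c⁻¹ = x from ?_]
    refine Eq.trans ?_ hcx
    simp only [y]
    group
  rwa [hcy, mul_inv_cancel_right] at h1

/-- An element of the normalizer of a cyclic `p`-group `R` that fixes a nontrivial element of `R`
centralizes `R`, provided some power of it prime to `p` centralizes `R`. -/
lemma centralizes_cyclic [Finite G] {p : ℕ} [hp : Fact p.Prime] {R : Subgroup G} (hR : IsPGroup p R)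
    [IsCyclic R] {g : G} (hg : g ∈ Subgroup.normalizer (R : Set G)) {x : G} (hxR : x ∈ R) (hx1 : x ≠ 1)
    (hgx : Commute g x) {m : ℕ} (hm : m.Coprime p) (hgm : g ^ m ∈ Subgroup.centralizer (R : Set G)) :
    g ∈ Subgroup.centralizer (R : Set G) := by
  obtain ⟨⟨u, huR⟩, hu⟩ := IsCyclic.exists_generator (α := R)
  have hgen : ∀ r ∈ R, ∃ k : ℤ, u ^ k = r := fun r hr => by
    obtain ⟨k, hk⟩ := hu ⟨r, hr⟩
    exact ⟨k, by simpa using congrArg Subtype.val hk⟩
  obtain ⟨k, hk⟩ := hgen _ ((Subgroup.mem_normalizer_iff.1 hg u).1 huR)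
  obtain ⟨j, hj⟩ := hgen x hxR
  obtain ⟨n, hn⟩ := IsPGroup.iff_orderOf.1 hR ⟨u, huR⟩
  rw [Subgroup.orderOf_mk] at hn
  have hx : u ^ (k * j) = u ^ j := by
    rw [zpow_mul, hk, conj_zpow, hj, hgx.eq, mul_inv_cancel_right]
  have hpk : (p : ℤ) ∣ k - 1 := by
    have h1 : ((p ^ n : ℕ) : ℤ) ∣ (k - 1) * j := by
      rw [← hn, orderOf_dvd_iff_zpow_eq_one, sub_mul, one_mul, zpow_sub, hx, mul_inv_cancel]
    have h2 : ¬ ((p ^ n : ℕ) : ℤ) ∣ j := fun h => hx1 (by
      rw [← hj, ← orderOf_dvd_iff_zpow_eq_one, hn]; exact h)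
    by_contra h3
    exact h2 ((IsCoprime.pow_left (((Nat.prime_iff_prime_int.1 hp.out).coprime_iff_not_dvd).2 h3)).dvd_of_dvd_mul_left
      (by simpa using h1))
  have hpow : ∀ i : ℕ, g ^ i * u * (g ^ i)⁻¹ = u ^ (k ^ i) := by
    intro i
    induction i with
    | zero => simp
    | succ i ih =>
      rw [pow_succ' g i, pow_succ' k i, zpow_mul, hk, conj_zpow, ← ih]
      group
  have hm' : u ^ (k ^ m) = u := by
    rw [← hpow, ← (Subgroup.mem_centralizer_iff.1 hgm u huR), mul_inv_cancel_right]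
  have h1 : ((p ^ n : ℕ) : ℤ) ∣ (∑ i ∈ Finset.range m, k ^ i) * (k - 1) := by
    rw [geom_sum_mul, ← hn, orderOf_dvd_iff_zpow_eq_one, zpow_sub, hm', zpow_one, mul_inv_cancel]
  have h2 : IsCoprime ((p : ℤ) ^ n) (∑ i ∈ Finset.range m, k ^ i) := by
    refine IsCoprime.pow_left (((Nat.prime_iff_prime_int.1 hp.out).coprime_iff_not_dvd).2 fun h => ?_)
    have h3 : (p : ℤ) ∣ (m : ℤ) := by
      rw [← ZMod.intCast_zmod_eq_zero_iff_dvd] at *
      have hk1 : (k : ZMod p) = 1 := by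
        rw [← sub_eq_zero]; simpa using hpk
      simpa [hk1] using h
    exact (Nat.Prime.coprime_iff_not_dvd hp.out).1 hm.symm (Int.natCast_dvd_natCast.1 h3)
  have h3 : u ^ k = u := by
    have h4 : ((p ^ n : ℕ) : ℤ) ∣ k - 1 := by
      push_cast at h1 ⊢
      exact h2.dvd_of_dvd_mul_left h1
    rw [← hn, orderOf_dvd_iff_zpow_eq_one, zpow_sub, zpow_one, mul_inv_eq_one] at h4
    exact h4
  rw [hk] at h3
  rw [Subgroup.mem_centralizer_iff]
  intro r hr
  obtain ⟨i, rfl⟩ := hgen r hr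
  exact (Commute.zpow_left (show Commute u g from (mul_inv_eq_iff_eq_mul.1 h3).symm) i).eq

end CfsgLib.Isolated
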