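/-
An element locally central at a Sylow p-subgroup has strongly p-embedded centralizer.
-/
import Mathlib

set_option autoImplicit false

namespace CfsgLib.Isolated

variable {G : Type*} [Group G]

lemma lt_inf_normalizer [Finite G] {p : ℕ} [Fact p.Prime] {Q D : Subgroup G} (hQ : IsPGroup p Q)
    (hD : D < Q) : D < Q ⊓ Subgroup.normalizer (D : Set G) := by
  refine lt_of_le_of_ne (le_inf hD.le Subgroup.le_normalizer) fun h => ?_
  have hnil : Group.IsNilpotent Q := hQ.isNilpotent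
  have h1 : D.subgroupOf Q = ⊤ := by
    apply normalizerCondition_iff_only_full_group_self_normalizing.mp Group.normalizerCondition_of_isNilpotent
    refine le_antisymm (fun q hq => ?_) Subgroup.le_normalizer
    have h2 : (q : G) ∈ Q ⊓ Subgroup.normalizer (D : Set G) := by
      refine ⟨q.2, Subgroup.mem_normalizer_iff.2 fun a => ⟨fun ha => ?_, fun ha => ?_⟩⟩
      · have := (Subgroup.mem_normalizer_iff.1 hq ⟨a, hD.le ha⟩).1 ha
        exact this
      · have hb : (q : G) * a * (q : G)⁻¹ ∈ Q := hD.le ha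
        have haQ : a ∈ Q := by
          simpa [mul_assoc] using Q.mul_mem (Q.mul_mem (Q.inv_mem q.2) hb) q.2
        exact (Subgroup.mem_normalizer_iff.1 hq ⟨a, haQ⟩).2 ha
    rw [← h] at h2
    exact h2
  exact hD.not_ge (Subgroup.subgroupOf_eq_top.1 h1)

lemma locallyCentral_mem_centralizer [Finite G] {p : ℕ} [Fact p.Prime] (P : Sylow p G) (x : G)
    (hlc : ∀ R : Subgroup G, R ≤ (P : Subgroup G) → R ≠ ⊥ →
      Subgroup.normalizer (R : Set G) ≤ Subgroup.centralizer ({x} : Set G))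
    (g : G) (hne : (P : Subgroup G) ⊓ ((g • P : Sylow p G) : Subgroup G) ≠ ⊥) :
    g ∈ Subgroup.centralizer ({x} : Set G) := by
  generalize hd : Nat.card (P : Subgroup G) -
    Nat.card ↥((P : Subgroup G) ⊓ ((g • P : Sylow p G) : Subgroup G)) = d
  induction d using Nat.strong_induction_on generalizing g with
  | _ d ih =>
  set D := (P : Subgroup G) ⊓ ((g • P : Sylow p G) : Subgroup G) with hDdef
  by_cases hDP : D = (P : Subgroup G)
  · have hgP : g • P = P := Sylow.ext
      ((P.3 (g • P).2 (inf_eq_left.1 hDP)))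
    exact hlc _ le_rfl (hDP ▸ hne) (Sylow.smul_eq_iff_mem_normalizer.1 hgP)
  have hlt : D < (P : Subgroup G) := lt_of_le_of_ne inf_le_left hDP
  have hlt' : D < ((g • P : Sylow p G) : Subgroup G) := by
    refine lt_of_le_of_ne inf_le_right fun h => hDP ?_
    have hcard : Nat.card ↥((g • P : Sylow p G) : Subgroup G) = Nat.card ↥(P : Subgroup G) :=
      (g • P).card_eq_multiplicity.trans P.card_eq_multiplicity.symm
    exact Subgroup.eq_of_le_of_card_ge inf_le_left (by rw [← hcard, ← h])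
  have hA := lt_inf_normalizer P.2 hlt
  have hB := lt_inf_normalizer (g • P).2 hlt'
  set N := Subgroup.normalizer (D : Set G)
  obtain ⟨Q₁, hQ₁⟩ := ((P.2.to_le (inf_le_left (b := N))).comap_subtype (K := N)).exists_le_sylow
  obtain ⟨Q₂, hQ₂⟩ :=
    (((g • P).2.to_le (inf_le_left (b := N))).comap_subtype (K := N)).exists_le_sylow
  obtain ⟨n, hn⟩ := MulAction.exists_smul_eq (↥N) Q₂ Q₁
  obtain ⟨R, hR⟩ := (Q₁.2.map N.subtype).exists_le_sylow
  obtain ⟨a, rfl⟩ := MulAction.exists_smul_eq G P R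
  have hAR : (P : Subgroup G) ⊓ N ≤ ((a • P : Sylow p G) : Subgroup G) := fun y hy =>
    hR ⟨⟨y, hy.2⟩, hQ₁ (show y ∈ (P : Subgroup G) ⊓ N from hy), rfl⟩
  have hBR : ∀ y ∈ ((g • P : Sylow p G) : Subgroup G) ⊓ N,
      (n : G) * y * (n : G)⁻¹ ∈ ((a • P : Sylow p G) : Subgroup G) := fun y hy => by
    refine hR ⟨n * ⟨y, hy.2⟩ * n⁻¹, ?_, by simp⟩
    rw [← hn, Sylow.coe_subgroup_smul]
    exact ⟨⟨y, hy.2⟩, hQ₂ (show y ∈ _ ⊓ N from hy), by simp⟩
  have key : ∀ (h : G) (S : Subgroup G), D < S → Nat.card ↥S ≤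
      Nat.card ↥((P : Subgroup G) ⊓ ((h • P : Sylow p G) : Subgroup G)) →
      h ∈ Subgroup.centralizer ({x} : Set G) := by
    intro h S hS hle
    have h1 : Nat.card ↥D < Nat.card ↥S :=
      lt_of_not_ge fun h => hS.ne (Subgroup.eq_of_le_of_card_ge hS.le h)
    have h2 : Nat.card ↥D ≤ Nat.card ↥(P : Subgroup G) := Subgroup.card_le_of_le inf_le_left
    have h3 : Nat.card ↥((P : Subgroup G) ⊓ ((h • P : Sylow p G) : Subgroup G)) ≤
        Nat.card ↥(P : Subgroup G) := Subgroup.card_le_of_le inf_le_left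
    refine ih _ ?_ h (fun h0 => ?_) rfl
    · omega
    · rw [h0, Subgroup.card_bot] at hle
      have := Nat.card_pos (α := ↥D)
      omega
  have ha : a ∈ Subgroup.centralizer ({x} : Set G) :=
    key a _ hA (Subgroup.card_le_of_le (le_inf inf_le_left hAR))
  have hnC : (n : G) ∈ Subgroup.centralizer ({x} : Set G) := hlc D inf_le_left hne n.2
  have hc : a⁻¹ * n * g ∈ Subgroup.centralizer ({x} : Set G) := by
    refine key _ _ hB ?_
    rw [← Subgroup.card_map_of_injective (f := (MulAut.conj (a⁻¹ * n)).toMonoidHom)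
      (MulEquiv.injective _)]
    refine Subgroup.card_le_of_le ?_
    rintro _ ⟨y, hy, rfl⟩
    refine ⟨?_, ?_⟩
    · have := hBR y hy
      rw [Sylow.coe_subgroup_smul] at this
      obtain ⟨z, hz, hz'⟩ := this
      have hz'' : a * z * a⁻¹ = (n : G) * y * (n : G)⁻¹ := hz'
      show a⁻¹ * n * y * (a⁻¹ * n)⁻¹ ∈ _
      have hzy : a⁻¹ * n * y * (a⁻¹ * n)⁻¹ = z := by
        calc a⁻¹ * n * y * (a⁻¹ * n)⁻¹ = a⁻¹ * ((n : G) * y * (n : G)⁻¹) * a := by group
          _ = z := by rw [← hz'']; group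
      rwa [hzy]
    · rw [mul_smul, Sylow.coe_subgroup_smul]
      exact ⟨y, hy.1, rfl⟩
  simpa [mul_assoc] using Subgroup.mul_mem _ (Subgroup.mul_mem _ (Subgroup.inv_mem _ hnC) ha) hc

end CfsgLib.Isolated
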