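/-
Basic properties of a minimal counterexample to the Z*_p statement.
-/
import Mathlib
import Cfsg.Agent.Lib.PCore.Basic
import Cfsg.Agent.Lib.PCore.PSolvable
import Cfsg.Agent.Lib.Isolated.Basic

set_option autoImplicit false

open Cfsg

namespace CfsgLib.Isolated

variable {G : Type*} [Group G] [Finite G] {p : ℕ}

lemma pPrimeCore_normal' : (pPrimeCore p G).Normal := inferInstance

lemma inZStar_of_central {x : G} (h : ∀ g : G, g * x * g⁻¹ = x) : InZStar p x := fun g => by
  rw [h g, mul_inv_cancel]; exact Subgroup.one_mem _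

lemma pPrimeCore_eq_bot_of_minimal {x : G} (hnz : ¬ InZStar p x)
    (hquot : ∀ (N : Subgroup G) [N.Normal], N ≠ ⊥ → InZStar p (QuotientGroup.mk x : G ⧸ N)) :
    pPrimeCore p G = ⊥ := by
  by_contra h
  have : (pPrimeCore p G).Normal := pPrimeCore_normal'
  refine hnz fun g => ?_
  have h1 := hquot (pPrimeCore p G) h (QuotientGroup.mk' _ g)
  rw [CfsgLib.PCore.pPrimeCore_quotient_pPrimeCore, Subgroup.mem_bot] at h1
  exact (QuotientGroup.eq_one_iff _).1 h1

lemma eq_bot_of_abelian_normal [Fact p.Prime] (hc : pCore p G = ⊥) (hc' : pPrimeCore p G = ⊥)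
    (A : Subgroup G) [A.Normal] (hA : IsMulCommutative A) : A = ⊥ :=
  le_bot_iff.1 ((CfsgLib.PCore.le_pCore_sup_pPrimeCore_of_abelian (p := p) A).trans (by rw [hc, hc', sup_bot_eq]))

/-- Core step: if a normal subgroup `X` containing `x` centralizes the normal subgroup `N` and meets it in a
`p`-group, then the commutators of `x` lie in `N` as soon as `x` is in `Z*_p` modulo `N`. -/
lemma commutator_mem_of_centralizes [hp : Fact p.Prime] (hc' : pPrimeCore p G = ⊥) {x : G}
    (N X : Subgroup G) [N.Normal] [X.Normal] (hxX : x ∈ X)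
    (hXC : X ≤ Subgroup.centralizer (N : Set G)) (hXN : IsPGroup p ↥(X ⊓ N))
    (hq : InZStar p (QuotientGroup.mk x : G ⧸ N)) (g : G) : g * x * g⁻¹ * x⁻¹ ∈ N := by
  set K := (pPrimeCore p (G ⧸ N)).comap (QuotientGroup.mk' N) with hK
  set D := X ⊓ K with hD
  have hKn : K.Normal := (pPrimeCore_normal').comap _
  have hDn : D.Normal := Subgroup.normal_inf_normal X K
  set Z := N.subgroupOf D with hZ
  have hZc : Z ≤ Subgroup.center ↥D := fun z hz => Subgroup.mem_center_iff.2 fun d =>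
    Subtype.ext (Subgroup.mem_centralizer_iff.1 (hXC d.2.1) _ hz).symm
  have hZp : IsPGroup p ↥Z := by
    have h1 : IsPGroup p ↥((X ⊓ N).subgroupOf D) := hXN.comap_subtype
    refine h1.to_le fun z hz => ?_
    exact ⟨z.2.1, hz⟩
  have hZi : Z.index.Coprime p := by
    have h1 : Z.index = Nat.card ↥(D.map (QuotientGroup.mk' N)) := by
      rw [hZ, ← MonoidHom.domRestrict_range, ← Subgroup.index_ker, MonoidHom.ker_domRestrict, QuotientGroup.ker_mk']
    rw [h1]
    exact Nat.Coprime.coprime_dvd_left (Subgroup.card_dvd_of_le ((Subgroup.map_mono inf_le_right).trans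
      (Subgroup.map_comap_le _ _))) CfsgLib.PCore.pPrimeCore_coprime
  have hO : pPrimeCore p ↥D = ⊥ := by
    refine (Subgroup.map_eq_bot_iff_of_injective _ D.subtype_injective).1 ?_
    rw [CfsgLib.PCore.map_pPrimeCore_subtype_of_normal, hc', inf_bot_eq]
  have h2 := CfsgLib.PCore.sup_pPrimeCore_eq_top_of_central Z hZc hZp hZi
  rw [hO, sup_bot_eq] at h2
  have h3 : g * x * g⁻¹ * x⁻¹ ∈ D :=
    ⟨X.mul_mem (‹X.Normal›.conj_mem x hxX g) (X.inv_mem hxX), hq (QuotientGroup.mk' N g)⟩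
  exact Subgroup.subgroupOf_eq_top.1 h2 h3

lemma central_in_normal_pGroup [Fact p.Prime] {x : G} (hx : ∃ k : ℕ, orderOf x = p ^ k) (hiso : IsIsolated x)
    (N : Subgroup G) [N.Normal] (hN : IsPGroup p N) :
    Subgroup.normalClosure ({x} : Set G) ≤ Subgroup.centralizer (N : Set G) := by
  refine Subgroup.normalClosure_le_normal (Set.singleton_subset_iff.2 (Subgroup.mem_centralizer_iff.2 fun n hn => ?_))
  have hR : IsPGroup p ↥(Subgroup.zpowers x ⊔ N) := (isPGroup_zpowers_of_orderOf hx).to_sup_of_normal_right hN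
  exact ((commute_of_mem_pSubgroup hiso hR (Subgroup.mem_sup_left (Subgroup.mem_zpowers x))
    (Subgroup.mem_sup_right hn)).eq).symm

lemma pCore_eq_bot_of_minimal [hp : Fact p.Prime] {x : G} (hx : ∃ k : ℕ, orderOf x = p ^ k)
    (hiso : IsIsolated x) (hnz : ¬ InZStar p x)
    (hquot : ∀ (N : Subgroup G) [N.Normal], N ≠ ⊥ → InZStar p (QuotientGroup.mk x : G ⧸ N)) :
    pCore p G = ⊥ := by
  by_contra h
  have : (pCore p G).Normal := Subgroup.normal_of_characteristic _
  refine hnz (inZStar_of_central fun g => ?_)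
  have hP := CfsgLib.PCore.pCore_isPGroup (p := p) (G := G)
  have hmem := commutator_mem_of_centralizes (pPrimeCore_eq_bot_of_minimal hnz hquot) (pCore p G)
    (Subgroup.normalClosure {x}) (Subgroup.subset_normalClosure rfl) (central_in_normal_pGroup hx hiso _ hP)
    (hP.to_le inf_le_right) (hquot _ h) g
  have hR : IsPGroup p ↥(Subgroup.zpowers x ⊔ pCore p G) :=
    (isPGroup_zpowers_of_orderOf hx).to_sup_of_normal_right hP
  refine conj_eq_of_mem_pSubgroup hiso hR (Subgroup.mem_sup_left (Subgroup.mem_zpowers x)) ?_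
  have h2 := Subgroup.mul_mem _ (Subgroup.mem_sup_right hmem : _ ∈ Subgroup.zpowers x ⊔ pCore p G)
    (Subgroup.mem_sup_left (Subgroup.mem_zpowers x))
  rwa [inv_mul_cancel_right] at h2

lemma sup_zpowers_eq_top_of_minimal [hp : Fact p.Prime] {x : G} (hx : ∃ k : ℕ, orderOf x = p ^ k)
    (hiso : IsIsolated x) (hnz : ¬ InZStar p x)
    (hmin : ∀ (H : Subgroup G) (hxH : x ∈ H), H ≠ ⊤ → InZStar p (⟨x, hxH⟩ : ↥H))
    (hquot : ∀ (N : Subgroup G) [N.Normal], N ≠ ⊥ → InZStar p (QuotientGroup.mk x : G ⧸ N))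
    (N : Subgroup G) [hNn : N.Normal] (hN : N ≠ ⊥) : N ⊔ Subgroup.zpowers x = ⊤ := by
  by_contra hH
  set H := N ⊔ Subgroup.zpowers x with hHdef
  have hxH : x ∈ H := Subgroup.mem_sup_right (Subgroup.mem_zpowers x)
  have hc' := pPrimeCore_eq_bot_of_minimal hnz hquot
  have hc := pCore_eq_bot_of_minimal hx hiso hnz hquot
  have hxC : x ∈ Subgroup.centralizer (N : Set G) := by
    refine Subgroup.mem_centralizer_iff.2 fun n hn => ?_
    have h1 := hmin H hxH hH ⟨n, Subgroup.mem_sup_left hn⟩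
    set J := (pPrimeCore p ↥H).map H.subtype ⊓ N with hJ
    have hm : n * x * n⁻¹ * x⁻¹ ∈ J := by
      refine ⟨⟨_, h1, rfl⟩, ?_⟩
      have e : n * x * n⁻¹ * x⁻¹ = n * (x * n⁻¹ * x⁻¹) := by group
      rw [e]
      exact N.mul_mem hn (hNn.conj_mem _ (N.inv_mem hn) x)
    have hJn : (J.subgroupOf N).Normal := by
      refine ⟨fun j hj m => ⟨?_, (m * j * m⁻¹ : N).2⟩⟩
      obtain ⟨⟨j', hj', e⟩, -⟩ := hj
      refine ⟨⟨m, Subgroup.mem_sup_left m.2⟩ * j' * ⟨m, Subgroup.mem_sup_left m.2⟩⁻¹,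
        (pPrimeCore_normal').conj_mem _ hj' _, ?_⟩
      show (m : G) * (j' : G) * (m : G)⁻¹ = _
      rw [show (j' : G) = ((j : N) : G) from e]
      rfl
    have hJc : (Nat.card ↥(J.subgroupOf N)).Coprime p := by
      refine Nat.Coprime.coprime_dvd_left ?_ (CfsgLib.PCore.pPrimeCore_coprime (p := p) (G := ↥H))
      rw [← Subgroup.card_subtype, Subgroup.subgroupOf_map_subtype, ← Subgroup.card_subtype H (pPrimeCore p ↥H)]
      exact Subgroup.card_dvd_of_le (inf_le_left.trans inf_le_left)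
    have hJ0 : J.subgroupOf N = ⊥ := by
      refine le_bot_iff.1 ((CfsgLib.PCore.le_pPrimeCore hJn hJc).trans ?_)
      rw [le_bot_iff, ← Subgroup.map_eq_bot_iff_of_injective _ N.subtype_injective,
        CfsgLib.PCore.map_pPrimeCore_subtype_of_normal, hc', inf_bot_eq]
    have h0 : (⟨_, hm.2⟩ : N) ∈ J.subgroupOf N := hm
    rw [hJ0, Subgroup.mem_bot, Subtype.ext_iff] at h0
    exact mul_inv_eq_iff_eq_mul.1 (mul_inv_eq_one.1 h0)
  set X := Subgroup.normalClosure ({x} : Set G) with hX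
  have hXC : X ≤ Subgroup.centralizer (N : Set G) :=
    Subgroup.normalClosure_le_normal (Set.singleton_subset_iff.2 hxC)
  have hXN : X ⊓ N = ⊥ := by
    refine eq_bot_of_abelian_normal hc hc' _ ⟨⟨fun a b => Subtype.ext ?_⟩⟩
    exact (Subgroup.mem_centralizer_iff.1 (hXC a.2.1) _ b.2.2).symm
  refine hnz (inZStar_of_central fun g => ?_)
  have hmem := commutator_mem_of_centralizes hc' N X (Subgroup.subset_normalClosure rfl) hXC
    (by rw [hXN]; exact IsPGroup.of_bot) (hquot N hN) g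
  have h0 : g * x * g⁻¹ * x⁻¹ ∈ X ⊓ N :=
    ⟨X.mul_mem (Subgroup.normalClosure_normal.conj_mem x (Subgroup.subset_normalClosure (Set.mem_singleton x)) g)
      (X.inv_mem (Subgroup.subset_normalClosure (Set.mem_singleton x))), hmem⟩
  rw [hXN, Subgroup.mem_bot] at h0
  exact mul_inv_eq_one.1 h0

end CfsgLib.Isolated
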