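/-
In a group where the isolated p-element x is central modulo the p'-core, x normalizes some Sylow q-subgroup.
-/
import Mathlib
import Cfsg.Agent.Lib.Isolated.Minimal

set_option autoImplicit false

open Cfsg

namespace CfsgLib.Isolated

variable {G : Type*} [Group G] [Finite G]

lemma le_prime_pow_card {q : ℕ} [hq : Fact q.Prime] (P : Sylow q G) {H : Type*} [Group H] (f : G →* H)
    (hf : Function.Surjective f) (R : Subgroup G) (T : Sylow q ↥f.ker) (hT : (T : Subgroup ↥f.ker).map f.ker.subtype ≤ R)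
    (hRP : R ≤ (P : Subgroup G)) (hmap : Nat.card ↥((P : Subgroup G).map f) ≤ Nat.card ↥(R.map f)) :
    R = (P : Subgroup G) := by
  refine le_antisymm hRP fun y hy => ?_
  have hmap' : R.map f = (P : Subgroup G).map f := by
    have : Finite H := Finite.of_surjective f hf
    exact Subgroup.eq_of_le_of_card_ge (Subgroup.map_mono hRP) hmap
  have hT' : ((P : Subgroup G) ⊓ f.ker).subgroupOf f.ker = (T : Subgroup ↥f.ker) := by
    refine T.3 ((P.2.to_le inf_le_left).comap_subtype) fun z hz => ?_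
    exact ⟨hRP (hT ⟨z, hz, rfl⟩), z.2⟩
  obtain ⟨r, hr, hre⟩ : f y ∈ R.map f := hmap' ▸ Subgroup.mem_map_of_mem f hy
  have hk : r⁻¹ * y ∈ f.ker := by rw [MonoidHom.mem_ker, map_mul, map_inv, hre, inv_mul_cancel]
  have h1 : (⟨r⁻¹ * y, hk⟩ : f.ker) ∈ (T : Subgroup ↥f.ker) := by
    rw [← hT']
    exact ⟨Subgroup.mul_mem _ (Subgroup.inv_mem _ (hRP hr)) hy, hk⟩
  have := R.mul_mem hr (hT ⟨_, h1, rfl⟩)
  simpa using this

lemma exists_invariant_sylow {p q : ℕ} [hp : Fact p.Prime] [hq : Fact q.Prime] (hqp : q ≠ p) (x : G)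
    (hx : ∃ k : ℕ, orderOf x = p ^ k) (hiso : IsIsolated x) (hz : InZStar p x) :
    ∃ R : Sylow q G, x ∈ Subgroup.normalizer ((R : Subgroup G) : Set G) := by
  set K := pPrimeCore p G with hK
  have hKn : K.Normal := pPrimeCore_normal'
  -- an `x`-invariant Sylow subgroup of `K`
  letI act : MulAction ↥(Subgroup.zpowers x) (Sylow q ↥K) :=
    MulAction.compHom (Sylow q ↥K) ((MulAut.conjNormal (H := K)).comp (Subgroup.zpowers x).subtype)
  obtain ⟨T, hTfix⟩ := IsPGroup.nonempty_fixed_point_of_prime_not_dvd_card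
    (G := ↥(Subgroup.zpowers x)) (isPGroup_zpowers_of_orderOf hx) (Sylow q ↥K) (fun h => by
      obtain ⟨T⟩ := (inferInstance : Nonempty (Sylow q ↥K))
      exact CfsgLib.PCore.not_dvd_card_pPrimeCore (p := p) (G := G)
        (h.trans (T.card_dvd_index.trans (Subgroup.index_dvd_card _))))
  set TG := (T : Subgroup ↥K).map K.subtype with hTG
  have hxT : x ∈ Subgroup.normalizer (TG : Set G) := by
    have h := congrArg (fun S : Sylow q ↥K => (S : Subgroup ↥K)) (hTfix ⟨x, Subgroup.mem_zpowers x⟩)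
    refine Subgroup.mem_normalizer_iff_map_conj_eq.2 ?_
    show TG.map (MulAut.conj x).toMonoidHom = TG
    conv_rhs => rw [hTG, ← h]
    rw [hTG, Subgroup.map_map]
    refine Eq.trans ?_ (Subgroup.map_map _ _ _).symm
    congr 1
  set M := Subgroup.normalizer (TG : Set G) with hM
  -- factor `M`
  set N := (K ⊓ M) ⊔ Subgroup.zpowers x with hN
  have hNM : N ≤ M := sup_le inf_le_right ((Subgroup.zpowers_le).2 hxT)
  have hMN : M ≤ Subgroup.normalizer (N : Set G) := by
    refine Subgroup.le_normalizer_iff.2 fun m hm y hy => ?_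
    have : N ≤ N.comap (MulAut.conj m).toMonoidHom := by
      refine sup_le (fun z hz => ?_) ((Subgroup.zpowers_le).2 ?_)
      · exact Subgroup.mem_sup_left ⟨hKn.conj_mem z hz.1 m, M.mul_mem (M.mul_mem hm hz.2) (M.inv_mem hm)⟩
      · have h1 : m * x * m⁻¹ * x⁻¹ ∈ K ⊓ M :=
          ⟨hz m, M.mul_mem (M.mul_mem (M.mul_mem hm hxT) (M.inv_mem hm)) (M.inv_mem hxT)⟩
        have h2 := Subgroup.mul_mem _ (Subgroup.mem_sup_left h1 : _ ∈ N) (Subgroup.mem_sup_right (Subgroup.mem_zpowers x))
        show m * x * m⁻¹ ∈ N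
        rwa [inv_mul_cancel_right] at h2
    exact this hy
  set C := M ⊓ Subgroup.centralizer ({x} : Set G) with hC
  have hfac : N ⊔ C = M :=
    sup_inf_centralizer_eq hx hiso hNM hMN (Subgroup.mem_sup_right (Subgroup.mem_zpowers x))
  set f := QuotientGroup.mk' K
  have hfs : Function.Surjective f := QuotientGroup.mk'_surjective K
  have hMtop : M.map f = ⊤ := by
    rw [← Subgroup.map_top_of_surjective f hfs, ← T.normalizer_sup_eq_top, Subgroup.map_sup,
      QuotientGroup.map_mk'_self, sup_bot_eq]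
  have hCtop : C.map f = ⊤ := by
    rw [eq_top_iff, ← hMtop, ← hfac, Subgroup.map_sup, Subgroup.map_sup, sup_le_iff]
    refine ⟨sup_le ?_ ?_, le_rfl⟩
    · refine (Subgroup.map_mono inf_le_left).trans ?_
      rw [QuotientGroup.map_mk'_self]; exact bot_le
    · exact Subgroup.map_mono ((Subgroup.zpowers_le).2 ⟨hxT, Subgroup.mem_centralizer_singleton_iff.2 rfl⟩)
  have hgs : Function.Surjective (f.domRestrict C) := by
    rw [← MonoidHom.range_eq_top, MonoidHom.domRestrict_range, hCtop]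
  obtain ⟨U⟩ := (inferInstance : Nonempty (Sylow q ↥C))
  set UG := (U : Subgroup ↥C).map C.subtype with hUG
  have hUC : UG ≤ C := Subgroup.map_subtype_le _
  set R := TG ⊔ UG with hR
  have hRp : IsPGroup q ↥R :=
    (T.2.map K.subtype).to_sup_of_normal_left' (U.2.map C.subtype) (hUC.trans inf_le_left)
  obtain ⟨P, hP⟩ := hRp.exists_le_sylow
  have hxR : x ∈ Subgroup.normalizer (R : Set G) := by
    refine Subgroup.mem_normalizer_iff_map_conj_eq.2 ?_
    show R.map (MulAut.conj x).toMonoidHom = R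
    have e1 : TG.map (MulAut.conj x).toMonoidHom = TG := Subgroup.mem_normalizer_iff_map_conj_eq.1 hxT
    have e2 : UG.map (MulAut.conj x).toMonoidHom = UG := by
      refine Subgroup.eq_of_le_of_card_ge ?_ (le_of_eq (Subgroup.card_map_of_injective (MulEquiv.injective _)).symm)
      rintro _ ⟨y, hy, rfl⟩
      show x * y * x⁻¹ ∈ UG
      rw [(Subgroup.mem_centralizer_singleton_iff.1 (hUC hy).2).symm, mul_inv_cancel_right]
      exact hy
    rw [hR, Subgroup.map_sup, e1, e2]
  refine ⟨P, ?_⟩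
  let T' : Sylow q ↥f.ker := T.comapOfInjective (Subgroup.inclusion (le_of_eq (QuotientGroup.ker_mk' K)))
    (Subgroup.inclusion_injective _) (fun y _ => ⟨⟨(y : G), by rw [QuotientGroup.ker_mk']; exact y.2⟩, rfl⟩)
  suffices h : R = (P : Subgroup G) by rw [← h]; exact hxR
  refine le_prime_pow_card P f hfs R T' ?_ hP ?_
  · rintro _ ⟨y, hy, rfl⟩
    exact Subgroup.mem_sup_left ⟨_, hy, rfl⟩
  · have h1 : (Nat.card ↥((U : Subgroup ↥C).map (f.domRestrict C))) ≤ Nat.card ↥(R.map f) := by
      refine Subgroup.card_le_of_le ?_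
      rintro _ ⟨y, hy, rfl⟩
      exact ⟨y, Subgroup.mem_sup_right ⟨y, hy, rfl⟩, rfl⟩
    refine le_trans (le_of_eq ?_) h1
    have hP' := (P.mapSurjective hfs).card_eq_multiplicity
    have hU' := (U.mapSurjective hgs).card_eq_multiplicity
    rw [Sylow.coe_mapSurjective] at hP' hU'
    rw [hP', hU']

end CfsgLib.Isolated
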